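import Cfsg.Agent.Lib.CharDeg.Fourier

/-!
# Weights of abelian subgroups on invariant subspaces
-/

namespace Cfsg.Lib.RepDeg

open Module Cfsg.Lib.Sz Cfsg.Lib.CharDeg

set_option linter.unusedSectionVars false

variable {ι M : Type*} [AddCommGroup M] [Module ℂ M] [FiniteDimensional ℂ M]

/-- `χ` is a weight of the family `f` on `N`. -/
def IsWt (f : ι → End ℂ M) (N : Submodule ℂ M) (χ : ι → ℂ) : Prop :=
  ∃ v ∈ N, v ≠ 0 ∧ v ∈ wt f χ

theorem IsWt.mono {f : ι → End ℂ M} {N N' : Submodule ℂ M} {χ : ι → ℂ} (h : IsWt f N χ)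
    (hN : N ≤ N') : IsWt f N' χ :=
  let ⟨v, h1, h2⟩ := h; ⟨v, hN h1, h2⟩

theorem IsWt.one_le {f : ι → End ℂ M} {N : Submodule ℂ M} {χ : ι → ℂ} (h : IsWt f N χ) :
    1 ≤ finrank ℂ ↥(N ⊓ wt f χ) :=
  let ⟨v, h1, h2, h3⟩ := h
  Nat.pos_of_ne_zero fun e =>
    (Submodule.ne_bot_iff _).2 ⟨v, Submodule.mem_inf.2 ⟨h1, h3⟩, h2⟩ (Submodule.finrank_eq_zero.1 e)

theorem exists_isWt_ne_one {f : ι → End ℂ M} (hf : ∀ i j, f i * f j = f j * f i)
    {N : Submodule ℂ M} (hN : ∀ i, ∀ v ∈ N, f i v ∈ N) {i : ι} {n : ℕ} (hn : n ≠ 0)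
    (h : f i ^ n = 1) {v : M} (hv : v ∈ N) (h1 : f i v ≠ v) : ∃ χ, χ i ≠ 1 ∧ IsWt f N χ := by
  obtain ⟨χ, _, ⟨w, hw, rfl⟩, h2, h3⟩ := exists_wt hf (W := N.map (f i - 1))
    ((Submodule.ne_bot_iff _).2 ⟨_, ⟨v, hv, rfl⟩, sub_ne_zero.2 h1⟩) (by
      rintro j _ ⟨v, hv, rfl⟩
      exact ⟨f j v, hN j v hv, by simp [← End.mul_apply, hf i j]⟩)
  refine ⟨χ, fun e => h2 ((smul_eq_zero_iff_right (Nat.cast_ne_zero (R := ℂ).2 hn)).1 ?_), _,
    sub_mem (hN i w hw) hw, h2, h3⟩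
  have h4 : ∀ j : ℕ, (f i ^ j) ((f i - 1) w) = (f i - 1) w := fun j => by
    induction j with
    | zero => rfl
    | succ j ih => rw [pow_succ, End.mul_apply, h3 i, e, one_smul, ih]
  have h5 := LinearMap.congr_fun (geom_sum_mul (f i) n) w
  rw [End.mul_apply, LinearMap.sum_apply, Finset.sum_congr rfl fun j _ => h4 j, h, sub_self] at h5
  simpa [Nat.cast_smul_eq_nsmul, smul_sub] using h5

theorem sum_finrank_inf_le (f : ι → End ℂ M) (N : Submodule ℂ M) {J : Type*} [Fintype J]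
    {χ : J → ι → ℂ} (h : Function.Injective χ) :
    ∑ j, finrank ℂ ↥(N ⊓ wt f (χ j)) ≤ finrank ℂ N :=
  sum_finrank_le_of_wt f h _ (fun _ => inf_le_right) fun _ => inf_le_left

theorem card_mul_le (f : ι → End ℂ M) (N : Submodule ℂ M) {J : Type*} [Finite J]
    {χ : J → ι → ℂ} (h : Function.Injective χ) {d : ℕ}
    (hd : ∀ j, d ≤ finrank ℂ ↥(N ⊓ wt f (χ j))) : Nat.card J * d ≤ finrank ℂ N := by
  have := Fintype.ofFinite J
  refine le_trans ?_ (sum_finrank_inf_le f N h)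
  rw [Nat.card_eq_fintype_card]
  exact Finset.card_nsmul_le_sum _ _ _ fun j _ => hd j

theorem card_le (f : ι → End ℂ M) (N : Submodule ℂ M) {J : Type*} [Finite J]
    {χ : J → ι → ℂ} (h : Function.Injective χ) (hd : ∀ j, IsWt f N (χ j)) :
    Nat.card J ≤ finrank ℂ N := by
  simpa using card_mul_le f N h fun j => (hd j).one_le

theorem card_mul_add_le (f : ι → End ℂ M) (N : Submodule ℂ M) {J : Type*} [Finite J]
    {χ : J → ι → ℂ} (h : Function.Injective χ) {χ₀ : ι → ℂ} (h0 : ∀ j, χ j ≠ χ₀) {d : ℕ}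
    (hd : ∀ j, d ≤ finrank ℂ ↥(N ⊓ wt f (χ j))) :
    Nat.card J * d + finrank ℂ ↥(N ⊓ wt f χ₀) ≤ finrank ℂ N := by
  have := Fintype.ofFinite J
  refine le_trans ?_ (sum_finrank_inf_le f N (χ := fun j : Option J => j.elim χ₀ χ) ?_)
  · rw [Fintype.sum_option, Nat.card_eq_fintype_card, add_comm]
    exact Nat.add_le_add_left (Finset.card_nsmul_le_sum _ _ _ fun j _ => hd j) _
  · rintro (_ | i) (_ | j) e
    exacts [rfl, (h0 j e.symm).elim, (h0 i e).elim, congrArg _ (h e)]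

theorem sum_ne_zero (f : ι → End ℂ M) {J : Type*} [Fintype J] [Nonempty J] {χ : J → ι → ℂ}
    (h : Function.Injective χ) {v : J → M} (hv : ∀ j, v j ∈ wt f (χ j)) (h0 : ∀ j, v j ≠ 0) :
    ∑ j, v j ≠ 0 := fun e => by
  have := Fintype.linearIndependent_iff.1 ((iSupIndep_wt f h).linearIndependent _ hv h0)
    (fun _ => 1) (by simpa using e) (Classical.arbitrary J)
  exact one_ne_zero this

variable {G : Type*} [Group G]

theorem IsWt.conj (ρ : G →* End ℂ M) {x : ι → G} {N : Submodule ℂ M} {χ : ι → ℂ}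
    (h : IsWt (fun i => ρ (x i)) N χ) {g : G} (hg : ∀ v ∈ N, ρ g⁻¹ v ∈ N) {s : ι → ι}
    (hs : ∀ i, g * x i * g⁻¹ = x (s i)) : IsWt (fun i => ρ (x i)) N fun i => χ (s i) :=
  let ⟨v, h1, h2, h3⟩ := h
  ⟨_, hg v h1, fun e => h2 (apply_injective ρ _ (e.trans (map_zero _).symm)),
    apply_mem_wt ρ h3 fun i => by rw [← hs]; group⟩

theorem finrank_le_of_map (ρ : G →* End ℂ M) (g : G) {N N' : Submodule ℂ M}
    (h : ∀ v ∈ N, ρ g v ∈ N') : finrank ℂ N ≤ finrank ℂ N' :=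
  LinearMap.finrank_le_finrank_of_injective (f := (ρ g).restrict h)
    fun _ _ e => Subtype.ext (apply_injective ρ g (congrArg Subtype.val e))

theorem rho_pow_card [Finite G] (ρ : G →* End ℂ M) (g : G) : ρ g ^ Nat.card G = 1 := by
  rw [← map_pow, pow_card_eq_one', map_one]

theorem exists_ne_one (ρ : Representation ℂ G M) (hρ : ρ.IsIrreducible) (h2 : 2 ≤ finrank ℂ M) :
    ∃ g, ρ g ≠ 1 := by
  by_contra! h
  have := finrank_le_one_of_ker_eq_top ρ hρ (eq_top_iff.2 fun g _ => h g)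
  omega

variable {F W : Type*} [Field F] [AddCommGroup W] [Module F W] {ψ : AddChar F ℂ}

theorem eq_of_form (hψ : ψ ≠ 1) {β : W →ₗ[F] W →ₗ[F] F} (hβ : ∀ b, (∀ a, β a b = 0) → b = 0)
    {b b' : W} (h : ∀ a, ψ (β a b) = ψ (β a b')) : b = b' :=
  sub_eq_zero.1 (hβ _ fun a => by
    rw [map_sub, sub_eq_zero]
    exact eq_of_addChar hψ fun c => by simpa [mul_comm] using h (c • a))

/-- Every character of `W` comes from a vector. -/
theorem exists_eq_form [Finite W] (hψ : ψ ≠ 1) {β : W →ₗ[F] W →ₗ[F] F}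
    (hβ : ∀ b, (∀ a, β a b = 0) → b = 0) {χ : W → ℂ} (h : ∀ u v, χ u * χ v = χ (u + v))
    (h0 : ∀ u, χ u ≠ 0) : ∃ b, ∀ a, χ a = ψ (β a b) := by
  classical
  have := Fintype.ofFinite W
  have h1 : Function.Bijective fun b => ψ.compAddMonoidHom (β.flip b).toAddMonoidHom := by
    rw [Fintype.bijective_iff_injective_and_card]
    exact ⟨fun s t e => eq_of_form hψ hβ fun a => DFunLike.congr_fun e a, AddChar.card_eq.symm⟩
  obtain ⟨b, hb⟩ := h1.2 ⟨χ, mul_left_cancel₀ (h0 0) (by rw [h, add_zero, mul_one]),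
    fun a b => (h a b).symm⟩
  exact ⟨b, fun a => (DFunLike.congr_fun hb a).symm⟩

theorem exists_eq_mul [Finite F] (hψ : ψ ≠ 1) {χ : F → ℂ} (h : ∀ u v, χ u * χ v = χ (u + v))
    (h0 : ∀ u, χ u ≠ 0) : ∃ b, ∀ a, χ a = ψ (a * b) :=
  exists_eq_form hψ (β := LinearMap.mul F F) (fun b hb => by simpa using hb 1) h h0

theorem addChar_ne_zero (ψ : AddChar F ℂ) (a : F) : ψ a ≠ 0 := fun e => by
  simpa [e] using ψ.map_add_eq_mul a (-a)

open Classical in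
theorem sum_form [Fintype W] (hψ : ψ ≠ 1) {β : W →ₗ[F] W →ₗ[F] F}
    (hβ : ∀ b, (∀ a, β a b = 0) → b = 0) (b : W) :
    ∑ a, ψ (β a b) = if b = 0 then (Fintype.card W : ℂ) else 0 := by
  split_ifs with h
  · simp [h]
  · exact sum_addChar_linear hψ (f := β.flip b) fun e => h (hβ b fun a => LinearMap.congr_fun e a)

end Cfsg.Lib.RepDeg
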